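import Mathlib
import Cfsg.Agent.Lib.Involutions.BrauerFowler

/-!
# Groups with a four-group all of whose centralisers are small
-/

set_option autoImplicit false
set_option linter.unusedSectionVars false
set_option linter.style.haveILetI false

namespace Cfsg.Agent.Lib.FewBlocks

universe u

variable {G : Type u} [Group G] [Finite G]

theorem mem_centralizer_iff' {x g : G} :
    g ∈ Subgroup.centralizer ({x} : Set G) ↔ g * x * g⁻¹ = x :=
  (Involutions.conj_eq_self_iff_mem_centralizer).symm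

/-- A map whose fibres sit inside translates of a subgroup. -/
theorem card_le_card_mul_of_fibres {α : Type*} [Finite α] {s : Set G} (f : s → α) (b : ℕ)
    (hf : ∀ x₀ : s, Nat.card {x : s // f x = f x₀} ≤ b) :
    Nat.card s ≤ Nat.card (Set.range f) * b := by
  classical
  haveI := Fintype.ofFinite s
  haveI := Fintype.ofFinite α
  rw [Nat.card_eq_fintype_card, ← Finset.card_univ, Nat.card_coe_set_eq (Set.range f),
    Set.ncard_eq_toFinset_card', Set.toFinset_range, mul_comm]
  refine Finset.card_le_mul_card_image _ _ fun a ha => ?_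
  obtain ⟨x₀, -, rfl⟩ := Finset.mem_image.1 ha
  refine le_trans (le_of_eq ?_) (hf x₀)
  rw [Nat.card_eq_fintype_card, Fintype.card_subtype]

/-- The odd normal subgroup is bounded by the centralisers of a four-group. -/
theorem card_odd_le (K : Subgroup G) [K.Normal] (hodd : Odd (Nat.card K)) {t u : G}
    (ht : t * t = 1) (hu : u * u = 1) (htu : t * u = u * t) {b : ℕ}
    (h1 : Nat.card (K ⊓ Subgroup.centralizer ({t} : Set G) : Subgroup G) ≤ b)
    (h2 : Nat.card (K ⊓ Subgroup.centralizer ({u} : Set G) : Subgroup G) ≤ b)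
    (h3 : Nat.card (K ⊓ Subgroup.centralizer ({t * u} : Set G) : Subgroup G) ≤ b) :
    Nat.card K ≤ b ^ 3 := by
  classical
  have hti : t⁻¹ = t := inv_eq_of_mul_eq_one_right ht
  have hui : u⁻¹ = u := inv_eq_of_mul_eq_one_right hu
  have hconj : ∀ g x : G, x ∈ K → g * x * g⁻¹ ∈ K := fun g x hx =>
    Subgroup.Normal.conj_mem inferInstance x hx g
  obtain ⟨k, hk⟩ := hodd
  set m := k + 1 with hm
  have hroot : ∀ x ∈ K, (x ^ m) * (x ^ m) = x := by
    intro x hx
    rw [← pow_add, show m + m = Nat.card K + 1 by omega, pow_succ,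
      show x ^ Nat.card K = 1 from congrArg Subtype.val (pow_card_eq_one' (x := (⟨x, hx⟩ : K))),
      one_mul]
  set I : Set G := {x | x ∈ K ∧ t * x * t⁻¹ = x⁻¹} with hI
  -- step one
  have step1 : Nat.card K ≤ Nat.card I * b := by
    let f : ↥(K : Set G) → I := fun g => ⟨(g : G) * (t * (g : G)⁻¹ * t⁻¹),
      mul_mem g.2 (hconj t _ (inv_mem g.2)), by
        simp only [mul_inv_rev, inv_inv, hti]
        calc t * ((g : G) * (t * (g : G)⁻¹ * t)) * t
            = t * (g : G) * t * (g : G)⁻¹ * (t * t) := by group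
          _ = _ := by rw [ht, mul_one]; group⟩
    refine le_trans (card_le_card_mul_of_fibres f b fun x₀ => le_trans ?_ h1)
      (Nat.mul_le_mul_right _ (Finite.card_subtype_le _))
    refine Nat.card_le_card_of_injective (fun x => (⟨((x₀ : G))⁻¹ * ((x.1 : (K : Set G)) : G),
      Subgroup.mem_inf.2 ⟨mul_mem (inv_mem x₀.2) x.1.2, ?_⟩⟩ :
        (K ⊓ Subgroup.centralizer ({t} : Set G) : Subgroup G))) fun x y h => ?_
    · rw [mem_centralizer_iff']
      have h := congrArg (fun z : I => (z : G)) x.2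
      simp only [f, hti] at h
      calc (x₀ : G)⁻¹ * ((x.1 : (K : Set G)) : G) * t * ((x₀ : G)⁻¹ * ((x.1 : (K : Set G)) : G))⁻¹
          = (x₀ : G)⁻¹ * (((x.1 : (K : Set G)) : G) * (t * ((x.1 : (K : Set G)) : G)⁻¹ * t) * t⁻¹) *
            (x₀ : G) := by group
        _ = (x₀ : G)⁻¹ * ((x₀ : G) * (t * (x₀ : G)⁻¹ * t) * t⁻¹) * (x₀ : G) := by rw [h]
        _ = t := by group
    · exact Subtype.ext (Subtype.ext (mul_left_cancel (congrArg Subtype.val h)))
  -- step two
  have step2 : Nat.card I ≤ Nat.card (K ⊓ Subgroup.centralizer ({u} : Set G) : Subgroup G) * b := by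
    have hr : ∀ x : G, x ∈ K → u * x * u⁻¹ * x⁻¹ ∈ K := fun x hx => mul_mem (hconj u x hx) (inv_mem hx)
    let r : G → G := fun x => (u * x * u⁻¹ * x⁻¹) ^ m
    have hru : ∀ x, x ∈ K → u * r x * u⁻¹ = (r x)⁻¹ := by
      intro x hx
      simp only [r, ← conj_pow, ← inv_pow]
      congr 1
      simp only [mul_inv_rev, inv_inv, hui]
      calc u * (u * x * u * x⁻¹) * u = (u * u) * x * u * x⁻¹ * u := by group
        _ = x * (u * x⁻¹ * u) := by rw [hu, one_mul]; simp only [mul_assoc]
        _ = _ := by simp only [mul_assoc]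
    let q : G → G := fun x => r x * x
    have hqu : ∀ x, x ∈ K → u * q x * u⁻¹ = q x := by
      intro x hx
      calc u * q x * u⁻¹ = (u * r x * u⁻¹) * (u * x * u⁻¹) := by simp only [q]; group
        _ = (r x)⁻¹ * ((u * x * u⁻¹ * x⁻¹) * x) := by rw [hru x hx]; group
        _ = (r x)⁻¹ * ((r x * r x) * x) := by rw [hroot _ (hr x hx)]
        _ = q x := by simp only [q]; group
    have hqt : ∀ x, x ∈ K → t * x * t⁻¹ = x⁻¹ → t * q x * t⁻¹ = (q x)⁻¹ := by
      intro x hx hxt
      have e : t * r x * t⁻¹ = x⁻¹ * (r x)⁻¹ * x := by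
        simp only [r, ← conj_pow, ← inv_pow]
        rw [show x⁻¹ * (u * x * u⁻¹ * x⁻¹)⁻¹ ^ m * x =
          (x⁻¹ * (u * x * u⁻¹ * x⁻¹)⁻¹ * x) ^ m by
            have := conj_pow (i := m) (a := x⁻¹) (b := (u * x * u⁻¹ * x⁻¹)⁻¹)
            rw [inv_inv] at this; exact this.symm]
        congr 1
        calc t * (u * x * u⁻¹ * x⁻¹) * t⁻¹
            = (t * u) * x * (t * u)⁻¹ * (t * x * t⁻¹)⁻¹ := by group
          _ = u * (t * x * t⁻¹) * u⁻¹ * (t * x * t⁻¹)⁻¹ := by rw [htu]; group
          _ = _ := by rw [hxt]; group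
      calc t * q x * t⁻¹ = (t * r x * t⁻¹) * (t * x * t⁻¹) := by simp only [q]; group
        _ = _ := by rw [e, hxt]; simp only [q]; group
    let f : I → (K ⊓ Subgroup.centralizer ({u} : Set G) : Subgroup G) := fun x => ⟨q x,
      Subgroup.mem_inf.2 ⟨mul_mem (pow_mem (hr x x.2.1) m) x.2.1, by
        rw [mem_centralizer_iff']
        have h := hqu x x.2.1
        rw [mul_inv_eq_iff_eq_mul] at h ⊢
        exact h.symm⟩⟩
    refine le_trans (card_le_card_mul_of_fibres f b fun x₀ => ?_)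
      (Nat.mul_le_mul_right _ (Finite.card_subtype_le _))
    set Q := q x₀ with hQ
    have hQK : Q ∈ K := mul_mem (pow_mem (hr x₀ x₀.2.1) m) x₀.2.1
    set y := Q ^ m with hy
    set s := t * u with hs
    have hsQ : s * Q * s⁻¹ = Q⁻¹ := by
      calc s * Q * s⁻¹ = t * (u * Q * u⁻¹) * t⁻¹ := by simp only [hs]; group
        _ = _ := by rw [hqu _ x₀.2.1, hqt _ x₀.2.1 x₀.2.2]
    have hsy : s * y * s⁻¹ = y⁻¹ := by rw [hy, ← conj_pow, hsQ, inv_pow]
    have hys : Q * s = y * s * y⁻¹ := by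
      calc Q * s = y * y * s := by rw [hy, hroot _ hQK]
        _ = y * (y⁻¹)⁻¹ * s := by rw [inv_inv]
        _ = y * (s * y * s⁻¹)⁻¹ * s := by rw [hsy]
        _ = _ := by group
    refine le_trans (Nat.card_le_card_of_injective (fun x => (⟨y⁻¹ * r ((x.1 : I) : G) * y,
      Subgroup.mem_inf.2 ⟨?_, ?_⟩⟩ :
        (K ⊓ Subgroup.centralizer ({t * u} : Set G) : Subgroup G))) fun x x' h => ?_) h3
    · have := hconj y⁻¹ _ (pow_mem (hr _ (x.1 : I).2.1) m)
      rwa [inv_inv] at this
    · rw [mem_centralizer_iff']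
      have hx := congrArg Subtype.val x.2
      simp only [f] at hx
      set z := ((x.1 : I) : G) with hz
      have hzQ : r z * z = Q := hx
      have hzt : t * z * t⁻¹ = z⁻¹ := (x.1 : I).2.2
      have e1 : s * r z * s⁻¹ = Q⁻¹ * r z * Q := by
        calc s * r z * s⁻¹ = t * (u * r z * u⁻¹) * t⁻¹ := by simp only [hs]; group
          _ = (t * r z * t⁻¹)⁻¹ := by rw [hru z (x.1 : I).2.1]; group
          _ = ((t * q z * t⁻¹) * (t * z * t⁻¹)⁻¹)⁻¹ := by simp only [q]; group
          _ = _ := by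
            rw [hqt z (x.1 : I).2.1 hzt, hzt]
            simp only [q, hzQ]
            rw [← hzQ]; group
      have e2 : (Q * s) * r z = r z * (Q * s) := by
        calc (Q * s) * r z = Q * (s * r z * s⁻¹) * s := by group
          _ = _ := by rw [e1]; group
      rw [hys] at e2
      rw [hs] at e2
      calc y⁻¹ * r z * y * (t * u) * (y⁻¹ * r z * y)⁻¹
          = y⁻¹ * (r z * (y * (t * u) * y⁻¹)) * (r z)⁻¹ * y := by group
        _ = y⁻¹ * ((y * (t * u) * y⁻¹) * r z) * (r z)⁻¹ * y := by rw [e2]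
        _ = t * u := by group
    · have h' : y⁻¹ * r ((x.1 : I) : G) * y = y⁻¹ * r ((x'.1 : I) : G) * y :=
        congrArg Subtype.val h
      have hr' : r ((x.1 : I) : G) = r ((x'.1 : I) : G) := mul_left_cancel (mul_right_cancel h')
      have hx := congrArg Subtype.val (x.2.trans x'.2.symm)
      simp only [f, q, hr'] at hx
      exact Subtype.ext (Subtype.ext (mul_left_cancel hx))
  calc Nat.card K ≤ Nat.card I * b := step1
    _ ≤ (Nat.card (K ⊓ Subgroup.centralizer ({u} : Set G) : Subgroup G) * b) * b :=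
        Nat.mul_le_mul_right _ step2
    _ ≤ b * b * b := Nat.mul_le_mul_right _ (Nat.mul_le_mul_right _ h2)
    _ = b ^ 3 := by ring

/-- **A Brauer–Fowler count inside a normal subgroup.** -/
theorem exists_large_centralizer (N : Subgroup G) [N.Normal] {t : G} (ht : t * t = 1) {b : ℕ}
    (hb : Nat.card (N ⊓ Subgroup.centralizer ({t} : Set G) : Subgroup G) ≤ b)
    (hN : b < Nat.card N) :
    ∃ x ∈ N, x ≠ 1 ∧
      Nat.card N ≤ 2 * b ^ 2 * Nat.card (N ⊓ Subgroup.centralizer ({x} : Set G) : Subgroup G) := by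
  classical
  haveI := Fintype.ofFinite G
  have hconj : ∀ g x : G, x ∈ N → g * x * g⁻¹ ∈ N := fun g x hx =>
    Subgroup.Normal.conj_mem inferInstance x hx g
  have hti : t⁻¹ = t := inv_eq_of_mul_eq_one_right ht
  let T : Finset G := (Finset.univ.filter fun g => g ∈ N).image fun g => g * t * g⁻¹
  have hTm : Nat.card N ≤ T.card * b := by
    have h := card_le_card_mul_of_fibres (s := (N : Set G)) (α := G)
      (fun g => (g : G) * t * (g : G)⁻¹) b fun x₀ => le_trans (Nat.card_le_card_of_injective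
        (fun x => (⟨(x₀ : G)⁻¹ * ((x.1 : (N : Set G)) : G), Subgroup.mem_inf.2
          ⟨mul_mem (inv_mem x₀.2) x.1.2, ?_⟩⟩ :
          (N ⊓ Subgroup.centralizer ({t} : Set G) : Subgroup G))) fun x y h =>
            Subtype.ext (Subtype.ext (mul_left_cancel (congrArg Subtype.val h)))) hb
    · refine le_trans h (Nat.mul_le_mul_right _ (le_of_eq ?_))
      rw [Nat.card_coe_set_eq, ← Set.ncard_coe_finset]
      congr 1
      ext y
      constructor
      · rintro ⟨g, rfl⟩
        exact Finset.mem_image.2 ⟨g, Finset.mem_filter.2 ⟨Finset.mem_univ _, g.2⟩, rfl⟩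
      · intro hy
        obtain ⟨g, hg, rfl⟩ := Finset.mem_image.1 (Finset.mem_coe.1 hy)
        exact ⟨⟨g, (Finset.mem_filter.1 hg).2⟩, rfl⟩
    · rw [mem_centralizer_iff']
      have h : ((x.1 : (N : Set G)) : G) * t * ((x.1 : (N : Set G)) : G)⁻¹ =
          (x₀ : G) * t * (x₀ : G)⁻¹ := x.2
      calc (x₀ : G)⁻¹ * ((x.1 : (N : Set G)) : G) * t * ((x₀ : G)⁻¹ * ((x.1 : (N : Set G)) : G))⁻¹
          = (x₀ : G)⁻¹ * (((x.1 : (N : Set G)) : G) * t * ((x.1 : (N : Set G)) : G)⁻¹) * (x₀ : G) := by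
            group
        _ = t := by rw [h]; group
  have hm2 : 2 ≤ T.card := by
    by_contra hlt
    have : T.card * b ≤ 1 * b := Nat.mul_le_mul_right _ (by omega)
    omega
  have memT : ∀ v ∈ T, v * v = 1 ∧ v * t ∈ N := by
    intro v hv
    obtain ⟨g, hg, rfl⟩ := Finset.mem_image.1 hv
    have hgN : g ∈ N := (Finset.mem_filter.1 hg).2
    refine ⟨?_, ?_⟩
    · calc g * t * g⁻¹ * (g * t * g⁻¹) = g * (t * t) * g⁻¹ := by group
        _ = 1 := by rw [ht]; group
    · have h := mul_mem hgN (hconj t _ (inv_mem hgN))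
      rw [hti] at h
      simpa [mul_assoc] using h
  have hpair : ∀ v ∈ T, ∀ w ∈ T, v * w ∈ N := by
    intro v hv w hw
    have hwi : w⁻¹ = w := inv_eq_of_mul_eq_one_right (memT w hw).1
    have h := mul_mem (memT v hv).2 (inv_mem (memT w hw).2)
    rw [mul_inv_rev, hti, hwi] at h
    rw [show v * w = v * (t * t) * w by rw [ht]; group]
    simpa [mul_assoc] using h
  set X : Finset G := (Finset.univ.filter fun g => g ∈ N).erase 1 with hX
  have hXne : X.Nonempty := by
    obtain ⟨v, hv, w, hw, hvw⟩ := Finset.one_lt_card.1 hm2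
    refine ⟨v * w, Finset.mem_erase.2 ⟨fun h => hvw ?_,
      Finset.mem_filter.2 ⟨Finset.mem_univ _, hpair v hv w hw⟩⟩⟩
    calc v = v * (w * w) := by rw [(memT w hw).1, mul_one]
      _ = w := by rw [← mul_assoc, h, one_mul]
  let c : G → ℕ := fun x => Nat.card (N ⊓ Subgroup.centralizer ({x} : Set G) : Subgroup G)
  obtain ⟨x, hxX, hmax⟩ := Finset.exists_max_image X c hXne
  obtain ⟨hx1, hxN⟩ := Finset.mem_erase.1 hxX
  refine ⟨x, (Finset.mem_filter.1 hxN).2, hx1, ?_⟩
  have hcount : T.offDiag.card ≤ c x * X.card := by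
    refine le_trans (Finset.card_le_mul_card_image (f := fun z : G × G => z.1 * z.2) _ (c x)
      fun a ha => ?_) (Nat.mul_le_mul_left _ (Finset.card_le_card fun a ha => ?_))
    · obtain ⟨z₀, hz₀, rfl⟩ := Finset.mem_image.1 ha
      obtain ⟨h01, h02, h0ne⟩ := Finset.mem_offDiag.1 hz₀
      have hmemX : z₀.1 * z₀.2 ∈ X := Finset.mem_erase.2 ⟨fun h => h0ne (by
          calc z₀.1 = z₀.1 * (z₀.2 * z₀.2) := by rw [(memT _ h02).1, mul_one]
            _ = z₀.2 := by rw [← mul_assoc, h, one_mul]),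
        Finset.mem_filter.2 ⟨Finset.mem_univ _, hpair _ h01 _ h02⟩⟩
      refine le_trans ?_ (hmax _ hmemX)
      show _ ≤ Nat.card _
      rw [Nat.card_eq_fintype_card, ← Fintype.card_coe]
      refine Fintype.card_le_of_injective (fun z => (⟨z₀.1 * (z.1).1, Subgroup.mem_inf.2
        ⟨hpair _ h01 _ (Finset.mem_offDiag.1 (Finset.mem_filter.1 z.2).1).1, ?_⟩⟩ :
          (N ⊓ Subgroup.centralizer ({z₀.1 * z₀.2} : Set G) : Subgroup G))) fun z z' h => ?_
      · obtain ⟨hz, hzp⟩ := Finset.mem_filter.1 z.2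
        obtain ⟨hz1, hz2, -⟩ := Finset.mem_offDiag.1 hz
        have i1 : z.1.1⁻¹ = z.1.1 := inv_eq_of_mul_eq_one_right (memT _ hz1).1
        have i2 : z.1.2⁻¹ = z.1.2 := inv_eq_of_mul_eq_one_right (memT _ hz2).1
        have j1 : z₀.1⁻¹ = z₀.1 := inv_eq_of_mul_eq_one_right (memT _ h01).1
        have j2 : z₀.2⁻¹ = z₀.2 := inv_eq_of_mul_eq_one_right (memT _ h02).1
        have hzp' : z.1.1 * z.1.2 = z₀.1 * z₀.2 := hzp
        rw [mem_centralizer_iff']
        calc z₀.1 * z.1.1 * (z₀.1 * z₀.2) * (z₀.1 * z.1.1)⁻¹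
            = z₀.1 * z.1.1 * (z.1.1 * z.1.2) * z.1.1⁻¹ * z₀.1⁻¹ := by rw [hzp']; group
          _ = z₀.1 * (z.1.1 * z.1.1) * (z.1.2⁻¹ * z.1.1⁻¹) * z₀.1⁻¹ := by rw [i2]; group
          _ = z₀.1 * (z.1.1 * z.1.2)⁻¹ * z₀.1⁻¹ := by rw [(memT _ hz1).1]; group
          _ = z₀.1 * (z₀.2⁻¹ * z₀.1⁻¹) * z₀.1⁻¹ := by rw [hzp']; group
          _ = (z₀.1 * z₀.2) * (z₀.1 * z₀.1)⁻¹ := by rw [j2]; group
          _ = _ := by rw [(memT _ h01).1]; group
      · have h1 : z.1.1 = z'.1.1 := mul_left_cancel (congrArg Subtype.val h)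
        refine Subtype.ext (Prod.ext h1 ?_)
        have hzz : z.1.1 * z.1.2 = z'.1.1 * z'.1.2 :=
          (Finset.mem_filter.1 z.2).2.trans (Finset.mem_filter.1 z'.2).2.symm
        rw [h1] at hzz
        exact mul_left_cancel hzz
    · obtain ⟨z, hz, rfl⟩ := Finset.mem_image.1 ha
      obtain ⟨h01, h02, h0ne⟩ := Finset.mem_offDiag.1 hz
      exact Finset.mem_erase.2 ⟨fun h => h0ne (by
          calc z.1 = z.1 * (z.2 * z.2) := by rw [(memT _ h02).1, mul_one]
            _ = z.2 := by rw [← mul_assoc, h, one_mul]),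
        Finset.mem_filter.2 ⟨Finset.mem_univ _, hpair _ h01 _ h02⟩⟩
  have hXcard : X.card ≤ Nat.card N := by
    rw [Nat.card_eq_fintype_card, Fintype.card_subtype]
    exact Finset.card_le_card (Finset.erase_subset _ _)
  rw [Finset.offDiag_card] at hcount
  set m := T.card
  set n := Nat.card N
  have h1 : m * m ≤ 2 * (c x * n) := by
    have := Nat.mul_le_mul_left (c x) hXcard
    have h' : 2 * m ≤ m * m := Nat.mul_le_mul_right m hm2
    omega
  have h2 : n * n ≤ 2 * b ^ 2 * c x * n := by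
    calc n * n ≤ (m * b) * (m * b) := Nat.mul_le_mul hTm hTm
      _ = m * m * b ^ 2 := by ring
      _ ≤ 2 * (c x * n) * b ^ 2 := Nat.mul_le_mul_right _ h1
      _ = _ := by ring
  exact Nat.le_of_mul_le_mul_right h2 (by omega)

theorem eq_of_conj_stable {N W : Subgroup G} (hW : W ≤ N)
    (hmin : ∀ L : Subgroup G, L.Normal → L ≤ N → L = ⊥ ∨ L = N)
    (hst : ∀ g x : G, x ∈ W → g * x * g⁻¹ ∈ W) : W = ⊥ ∨ W = N :=
  hmin W ⟨fun n hn g => hst g n hn⟩ hW

theorem exists_maximal_normal_ge {H : Type u} [Group H] [Finite H] (L : Subgroup H) [L.Normal]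
    (hL : L ≠ ⊤) : ∃ Y : Subgroup H, ((Y.Normal ∧ Y ≠ ⊤) ∧ L ≤ Y) ∧
      ∀ W : Subgroup H, W.Normal → Y ≤ W → Y ≠ W → W = ⊤ := by
  haveI : Nonempty {W : Subgroup H // (W.Normal ∧ W ≠ ⊤) ∧ L ≤ W} :=
    ⟨⟨L, ⟨inferInstance, hL⟩, le_rfl⟩⟩
  obtain ⟨⟨Y, hY⟩, hmax⟩ :=
    Finite.exists_max (fun W : {W : Subgroup H // (W.Normal ∧ W ≠ ⊤) ∧ L ≤ W} => Nat.card W.1)
  exact ⟨Y, hY, fun W hW hle hne => by_contra fun htop =>
    hne (Subgroup.eq_of_le_of_card_ge hle (hmax ⟨W, ⟨hW, htop⟩, hY.2.trans hle⟩))⟩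

/-- A minimal normal subgroup of even order is bounded. -/
theorem card_minimal_le (N : Subgroup G) [hNn : N.Normal]
    (hmin : ∀ L : Subgroup G, L.Normal → L ≤ N → L = ⊥ ∨ L = N) {t : G} (ht : t * t = 1) {a b : ℕ}
    (heven : 2 ∣ Nat.card N) (h2 : ¬ 2 ^ (a + 1) ∣ Nat.card G)
    (hb : Nat.card (N ⊓ Subgroup.centralizer ({t} : Set G) : Subgroup G) ≤ b) :
    Nat.card N ≤ b + 2 ^ a + ((2 * b ^ 2).factorial) ^ a := by
  classical
  by_cases hNb : Nat.card N ≤ b
  · omega
  obtain ⟨x, hxN, hx1, hxc⟩ := exists_large_centralizer N ht hb (not_le.1 hNb)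
  have hconj : ∀ g y : G, y ∈ N → g * y * g⁻¹ ∈ N := fun g y hy => hNn.conj_mem y hy g
  have h2N : ∀ {j : ℕ}, 2 ^ j ∣ Nat.card N → j ≤ a := fun {j} hj => by
    by_contra hja
    exact h2 ((pow_dvd_pow 2 (by omega)).trans (hj.trans (Subgroup.card_subgroup_dvd_card N)))
  by_cases habel : N ≤ Subgroup.centralizer ({x} : Set G)
  · -- then `N` is an abelian group of exponent two
    have hcen : x ∈ N ⊓ Subgroup.centralizer (N : Set G) := ⟨hxN,
      Subgroup.mem_centralizer_iff.2 fun y hy =>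
        Subgroup.mem_centralizer_singleton_iff.1 (habel hy)⟩
    have hNN : N ⊓ Subgroup.centralizer (N : Set G) = N := by
      refine (eq_of_conj_stable inf_le_left hmin fun g y hy => ⟨hconj g y hy.1, ?_⟩).resolve_left
        fun h => hx1 (Subgroup.mem_bot.1 (h ▸ hcen))
      refine Subgroup.mem_centralizer_iff.2 fun z hz => ?_
      have hz' : g⁻¹ * z * g ∈ N := by
        have := hconj g⁻¹ z hz
        rwa [inv_inv] at this
      have h := Subgroup.mem_centralizer_iff.1 hy.2 _ hz'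
      calc z * (g * y * g⁻¹) = g * ((g⁻¹ * z * g) * y) * g⁻¹ := by group
        _ = g * (y * (g⁻¹ * z * g)) * g⁻¹ := by rw [h]
        _ = _ := by group
    have hcomm : ∀ y ∈ N, ∀ z ∈ N, z * y = y * z := fun y hy z hz =>
      Subgroup.mem_centralizer_iff.1 (hNN.symm.le hy).2 z hz
    let W : Subgroup G :=
      { carrier := {y | y ∈ N ∧ y ^ 2 = 1}
        one_mem' := ⟨one_mem _, one_pow 2⟩
        mul_mem' := fun {y z} hy hz => ⟨mul_mem hy.1 hz.1, by
          rw [(show Commute y z from hcomm z hz.1 y hy.1).mul_pow, hy.2, hz.2, mul_one]⟩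
        inv_mem' := fun {y} hy => ⟨inv_mem hy.1, by rw [inv_pow, hy.2, inv_one]⟩ }
    obtain ⟨w, hw⟩ := exists_prime_orderOf_dvd_card' 2 (G := N) heven
    have hWN : W = N := by
      refine (eq_of_conj_stable (W := W) (fun y hy => hy.1) hmin fun g y hy =>
        ⟨hconj g y hy.1, by rw [conj_pow, hy.2]; group⟩).resolve_left fun h => ?_
      have hwW : (w : G) ∈ W := ⟨w.2, by
        rw [← hw, ← Subgroup.orderOf_coe, pow_orderOf_eq_one]⟩
      rw [h, Subgroup.mem_bot] at hwW
      have : w = 1 := Subtype.ext hwW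
      rw [this, orderOf_one] at hw
      omega
    have hp2 : IsPGroup 2 N := fun y => ⟨1, Subtype.ext (by
      rw [SubgroupClass.coe_pow, pow_one]
      exact (hWN.symm.le y.2).2)⟩
    obtain ⟨j, hj⟩ := IsPGroup.iff_card.1 hp2
    have : Nat.card N ≤ 2 ^ a := hj ▸ Nat.pow_le_pow_right (by norm_num) (h2N (hj ▸ dvd_rfl))
    omega
  · -- a normal subgroup of bounded index
    set C := (Subgroup.centralizer ({x} : Set G)).subgroupOf N with hC
    have hCtop : C ≠ ⊤ := fun h => habel (Subgroup.subgroupOf_eq_top.1 h)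
    have hCidx : C.index ≤ 2 * b ^ 2 := by
      have h := C.card_mul_index
      have e : Nat.card C = Nat.card (N ⊓ Subgroup.centralizer ({x} : Set G) : Subgroup G) := by
        rw [hC, ← Subgroup.inf_subgroupOf_left,
          Nat.card_congr (Subgroup.subgroupOfEquivOfLe inf_le_left).toEquiv]
      rw [← e, ← h, mul_comm (2 * b ^ 2)] at hxc
      exact Nat.le_of_mul_le_mul_left hxc Nat.card_pos
    have hcore : C.normalCore.index ≤ (2 * b ^ 2).factorial := by
      refine le_trans (Nat.le_of_dvd (Nat.factorial_pos _) ?_) (Nat.factorial_le hCidx)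
      rw [Subgroup.normalCore_eq_ker, Subgroup.index_ker]
      refine (Subgroup.card_subgroup_dvd_card _).trans ?_
      rw [Nat.card_perm, Subgroup.index]
    obtain ⟨Y, ⟨⟨hYn, hYC⟩, hYmax⟩⟩ := exists_maximal_normal_ge C.normalCore
      (fun h => hCtop (top_le_iff.1 (h ▸ Subgroup.normalCore_le C)))
    set M₀ := Y.index with hM₀
    have hM₀le : M₀ ≤ (2 * b ^ 2).factorial :=
      (Nat.le_of_dvd (Nat.pos_of_ne_zero Subgroup.index_ne_zero_of_finite)
        (Subgroup.index_dvd_of_le hYC)).trans hcore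
    let φ : G → (N ≃* N) := fun g => MulAut.conjNormal g
    let Yg : G → Subgroup N := fun g => Y.comap (φ g).toMonoidHom
    have hYgn : ∀ g, (Yg g).Normal := fun g => Subgroup.Normal.comap hYn.1 _
    have hstep : ∀ s : Finset G, ∃ j : ℕ,
        (s.inf Yg).Normal ∧ (s.inf Yg).index = M₀ ^ j := by
      intro s
      induction s using Finset.induction with
      | empty =>
        refine ⟨0, ?_, by simp⟩
        rw [Finset.inf_empty]
        infer_instance
      | insert g s hg ih =>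
        obtain ⟨j, hn, hj⟩ := ih
        rw [Finset.inf_insert]
        set Z := s.inf Yg
        haveI := hn
        haveI := hYgn g
        refine (em (Z ≤ Yg g)).elim (fun hle => ⟨j, ?_, ?_⟩) (fun hle => ⟨j + 1, inferInstance, ?_⟩)
        · rw [inf_eq_right.2 hle]; exact hn
        · rw [inf_eq_right.2 hle]; exact hj
        · have hsup : Yg g ⊔ Z = ⊤ := by
            have hne : Y ≠ (Yg g ⊔ Z).map (φ g).toMonoidHom := by
              intro h
              apply hle
              intro z hz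
              show φ g z ∈ Y
              rw [h]
              exact ⟨z, (le_sup_right : Z ≤ Yg g ⊔ Z) hz, rfl⟩
            have h := hYmax ((Yg g ⊔ Z).map (φ g).toMonoidHom)
              (Subgroup.Normal.map inferInstance _ (φ g).surjective) (by
                intro y hy
                refine ⟨(φ g).symm y, (le_sup_left : Yg g ≤ Yg g ⊔ Z) ?_, (φ g).apply_symm_apply y⟩
                show φ g ((φ g).symm y) ∈ Y
                rw [(φ g).apply_symm_apply]; exact hy) hne
            rw [eq_top_iff]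
            intro z _
            obtain ⟨z', hz', he⟩ := h.symm.le (Subgroup.mem_top (φ g z))
            rwa [← (φ g).injective he]
          have h1 : (Yg g ⊓ Z).relIndex Z * Z.index = (Yg g ⊓ Z).index :=
            Subgroup.relIndex_mul_index inf_le_right
          rw [Subgroup.inf_relIndex_right, hj] at h1
          rw [← h1, ← Subgroup.relIndex_sup_left (H := Z), hsup, Subgroup.relIndex_top_right,
            show (Yg g).index = M₀ from
              Subgroup.index_comap_of_surjective Y (f := (φ g).toMonoidHom) (φ g).surjective,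
            pow_succ, mul_comm]
    haveI := Fintype.ofFinite G
    obtain ⟨j, -, hj⟩ := hstep Finset.univ
    set Z := (Finset.univ : Finset G).inf Yg
    have hZbot : Z = ⊥ := by
      have hst : ∀ g y : G, y ∈ Z.map N.subtype → g * y * g⁻¹ ∈ Z.map N.subtype := by
        rintro g _ ⟨z, hz, rfl⟩
        refine ⟨φ g z, ?_, rfl⟩
        rw [SetLike.mem_coe, show Z = ⨅ h : G, Yg h by simp [Z, Finset.inf_eq_iInf], Subgroup.mem_iInf] at hz ⊢
        intro h
        show φ h (φ g z) ∈ Y
        have h1 : φ (h * g) z ∈ Y := hz (h * g)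
        simpa [φ, map_mul] using h1
      rcases eq_of_conj_stable (Subgroup.map_subtype_le Z) hmin hst with h | h
      · exact (Subgroup.map_eq_bot_iff_of_injective _ N.subtype_injective).1 h
      · exfalso
        apply hYn.2
        rw [eq_top_iff]
        intro z _
        obtain ⟨z', hz', he⟩ := h.symm.le z.2
        have hzz : z' = z := Subtype.ext he
        have hmem : φ 1 z ∈ Y := (Finset.inf_le (Finset.mem_univ (1 : G)) : Z ≤ Yg 1) (hzz ▸ hz')
        simpa [φ] using hmem
    rw [hZbot, Subgroup.index_bot] at hj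
    have hje : j ≤ a := h2N (by
      have hMeven : 2 ∣ M₀ := Nat.prime_two.dvd_of_dvd_pow (hj ▸ heven)
      rw [hj]
      exact pow_dvd_pow_of_dvd hMeven j)
    have : Nat.card N ≤ ((2 * b ^ 2).factorial) ^ a := by
      rw [hj]
      exact (Nat.pow_le_pow_left hM₀le j).trans
        (Nat.pow_le_pow_right (Nat.factorial_pos _) hje)
    omega

end Cfsg.Agent.Lib.FewBlocks
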