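import Cfsg.Agent.Lib.FewBlocks.CentralizerBound

/-!
# The order bound from a four-group with small centralisers; Landau's theorem
-/

set_option autoImplicit false
set_option linter.unusedSectionVars false
set_option linter.style.haveILetI false

namespace Cfsg.Agent.Lib.FewBlocks

universe u

variable {G : Type u} [Group G] [Finite G]

theorem card_centralizer_quotient_le (K : Subgroup G) [K.Normal] (x : G) :
    Nat.card (Subgroup.centralizer ({(x : G ⧸ K)} : Set (G ⧸ K))) ≤
      Nat.card (Subgroup.centralizer ({x} : Set G)) * Nat.card K := by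
  classical
  set W : Set G := {g | g * x * g⁻¹ * x⁻¹ ∈ K} with hW
  have h1 : Nat.card W ≤ Nat.card K * Nat.card (Subgroup.centralizer ({x} : Set G)) := by
    refine le_trans (card_le_card_mul_of_fibres (s := W)
      (fun g => (⟨(g : G) * x * (g : G)⁻¹ * x⁻¹, g.2⟩ : K)) _ fun g₀ => ?_)
      (Nat.mul_le_mul_right _ (Finite.card_subtype_le _))
    refine Nat.card_le_card_of_injective (fun g => (⟨(g₀ : G)⁻¹ * ((g.1 : W) : G), ?_⟩ :
      Subgroup.centralizer ({x} : Set G))) fun g g' h =>
        Subtype.ext (Subtype.ext (mul_left_cancel (congrArg Subtype.val h)))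
    rw [mem_centralizer_iff']
    have h : ((g.1 : W) : G) * x * ((g.1 : W) : G)⁻¹ * x⁻¹ = (g₀ : G) * x * (g₀ : G)⁻¹ * x⁻¹ :=
      congrArg Subtype.val g.2
    have h' := mul_right_cancel h
    calc (g₀ : G)⁻¹ * ((g.1 : W) : G) * x * ((g₀ : G)⁻¹ * ((g.1 : W) : G))⁻¹
        = (g₀ : G)⁻¹ * (((g.1 : W) : G) * x * ((g.1 : W) : G)⁻¹) * (g₀ : G) := by group
      _ = x := by rw [h']; group
  refine le_trans ?_ (h1.trans (le_of_eq (mul_comm _ _)))
  refine Nat.card_le_card_of_surjective (fun g : W => (⟨((g : G) : G ⧸ K), ?_⟩ :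
    Subgroup.centralizer ({(x : G ⧸ K)} : Set (G ⧸ K)))) ?_
  · have hg : (g : G) * x * (g : G)⁻¹ * x⁻¹ ∈ K := g.2
    rw [← QuotientGroup.eq_one_iff] at hg
    simp only [QuotientGroup.mk_mul, QuotientGroup.mk_inv] at hg
    rw [mem_centralizer_iff']
    exact mul_inv_eq_one.1 hg
  · rintro ⟨q, hq⟩
    obtain ⟨g, rfl⟩ := QuotientGroup.mk_surjective q
    refine ⟨⟨g, ?_⟩, rfl⟩
    show g * x * g⁻¹ * x⁻¹ ∈ K
    rw [← QuotientGroup.eq_one_iff]
    simp only [QuotientGroup.mk_mul, QuotientGroup.mk_inv]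
    rw [mem_centralizer_iff'] at hq
    rw [hq, mul_inv_cancel]

/-- A normal subgroup containing an element bounds the group by its centraliser. -/
theorem card_le_of_mem_normal (N : Subgroup G) [N.Normal] {x : G} (hx : x ∈ N) :
    Nat.card G ≤ Nat.card N * Nat.card (Subgroup.centralizer ({x} : Set G)) := by
  rw [← Involutions.card_class_mul x]
  refine Nat.mul_le_mul_right _ (Nat.card_le_card_of_injective
    (fun y => (⟨y.1, ?_⟩ : N)) fun a b h => Subtype.ext (congrArg (fun z : N => (z : G)) h))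
  obtain ⟨g, hg⟩ := isConj_iff.1 y.2
  rw [← hg]
  exact Subgroup.Normal.conj_mem inferInstance x hx g

theorem mk_mul_self (K : Subgroup G) [K.Normal] {x : G} (hx : x * x = 1) :
    (x : G ⧸ K) * (x : G ⧸ K) = 1 := by
  rw [← QuotientGroup.mk_mul, hx, QuotientGroup.mk_one]

/-- **A four-group with bounded centralisers bounds the group.** -/
theorem exists_bound_of_four_group : ∀ a b : ℕ, ∃ F : ℕ, ∀ (G : Type u) [Group G] [Finite G]
    (t u : G), t * t = 1 → u * u = 1 → t * u = u * t → t ≠ 1 → u ≠ 1 → t ≠ u →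
    ¬ 2 ^ (a + 1) ∣ Nat.card G → Nat.card (Subgroup.centralizer ({t} : Set G)) ≤ b →
    Nat.card (Subgroup.centralizer ({u} : Set G)) ≤ b →
    Nat.card (Subgroup.centralizer ({t * u} : Set G)) ≤ b → Nat.card G ≤ F := by
  intro a
  induction a with
  | zero =>
    intro b
    refine ⟨0, fun G _ _ t u ht _ _ ht1 _ _ h2 _ _ _ => (h2 ?_).elim⟩
    have h : orderOf t = 2 := orderOf_eq_prime (by rw [sq]; exact ht) ht1
    rw [zero_add, pow_one, ← h]
    exact orderOf_dvd_natCard t
  | succ a ih =>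
    intro b
    set B1 := b * b ^ 3 with hB1
    set F1 := B1 + 2 ^ (a + 1) + ((2 * B1 ^ 2).factorial) ^ (a + 1) with hF1
    obtain ⟨F2, hF2⟩ := ih (B1 * F1)
    refine ⟨b ^ 3 * (1 + F1 * B1 + F1 * F2), fun G _ _ t u ht hu htu ht1 hu1 htne h2 hct hcu hctu => ?_⟩
    classical
    -- the largest odd normal subgroup
    haveI : Nonempty {K : Subgroup G // K.Normal ∧ Odd (Nat.card K)} :=
      ⟨⟨⊥, inferInstance, by rw [Subgroup.card_bot]; exact odd_one⟩⟩
    obtain ⟨⟨K, hKn, hKodd⟩, hKmax⟩ :=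
      Finite.exists_max (fun K : {K : Subgroup G // K.Normal ∧ Odd (Nat.card K)} => Nat.card K.1)
    haveI := hKn
    have hinf : ∀ (x : G) (L : Subgroup G),
        Nat.card (L ⊓ Subgroup.centralizer ({x} : Set G) : Subgroup G) ≤
          Nat.card (Subgroup.centralizer ({x} : Set G)) := fun x L =>
      Subgroup.card_le_of_le inf_le_right
    have hK : Nat.card K ≤ b ^ 3 := card_odd_le K hKodd ht hu htu ((hinf _ _).trans hct)
      ((hinf _ _).trans hcu) ((hinf _ _).trans hctu)
    have hnotK : ∀ x : G, x * x = 1 → x ≠ 1 → x ∉ K := fun x hx hx1 hxK => by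
      have h : orderOf x = 2 := orderOf_eq_prime (by rw [sq]; exact hx) hx1
      have h' := orderOf_dvd_natCard (⟨x, hxK⟩ : K)
      rw [Subgroup.orderOf_mk, h] at h'
      exact (Nat.not_even_iff_odd.2 hKodd) (even_iff_two_dvd.2 h')
    have htu2 : t * u * (t * u) = 1 := by
      calc t * u * (t * u) = t * (u * t) * u := by group
        _ = (t * t) * (u * u) := by rw [← htu]; group
        _ = 1 := by rw [ht, hu, one_mul]
    have htu1 : t * u ≠ 1 := fun h => htne (by
      calc t = t * (u * u) := by rw [hu, mul_one]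
        _ = u := by rw [← mul_assoc, h, one_mul])
    have hq : ∀ x : G, Nat.card (Subgroup.centralizer ({x} : Set G)) ≤ b →
        Nat.card (Subgroup.centralizer ({(x : G ⧸ K)} : Set (G ⧸ K))) ≤ B1 := fun x hx =>
      (card_centralizer_quotient_le K x).trans (Nat.mul_le_mul hx hK)
    have hne : ∀ x : G, x * x = 1 → x ≠ 1 → (x : G ⧸ K) ≠ 1 := fun x hx hx1 h =>
      hnotK x hx hx1 ((QuotientGroup.eq_one_iff x).1 h)
    have hKG : Nat.card G = Nat.card (G ⧸ K) * Nat.card K :=
      Subgroup.card_eq_card_quotient_mul_card_subgroup K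
    suffices hQ : Nat.card (G ⧸ K) ≤ 1 + F1 * B1 + F1 * F2 by
      rw [hKG, mul_comm]
      exact Nat.mul_le_mul hK hQ
    set Q := G ⧸ K
    set t' : Q := (t : G ⧸ K) with ht'
    set u' : Q := (u : G ⧸ K) with hu'
    have ht'2 : t' * t' = 1 := mk_mul_self K ht
    have hu'2 : u' * u' = 1 := mk_mul_self K hu
    have hc1 : Nat.card (Subgroup.centralizer ({t'} : Set Q)) ≤ B1 := hq t hct
    have hc2 : Nat.card (Subgroup.centralizer ({u'} : Set Q)) ≤ B1 := hq u hcu
    have hc3 : Nat.card (Subgroup.centralizer ({t' * u'} : Set Q)) ≤ B1 := hq (t * u) hctu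
    have h2Q : ¬ 2 ^ (a + 1 + 1) ∣ Nat.card Q := fun h => h2 (h.trans (hKG ▸ dvd_mul_right _ _))
    have hQ1 : (⊤ : Subgroup Q) ≠ ⊥ := fun h => hne t ht ht1
      (Subgroup.mem_bot.1 (h ▸ Subgroup.mem_top t'))
    -- a minimal normal subgroup
    haveI : Nonempty {N : Subgroup Q // N.Normal ∧ N ≠ ⊥} := ⟨⟨⊤, inferInstance, hQ1⟩⟩
    obtain ⟨⟨N, hNn, hN1⟩, hNmin⟩ :=
      Finite.exists_min (fun N : {N : Subgroup Q // N.Normal ∧ N ≠ ⊥} => Nat.card N.1)
    haveI := hNn
    have hmin : ∀ L : Subgroup Q, L.Normal → L ≤ N → L = ⊥ ∨ L = N := fun L hL hle =>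
      or_iff_not_imp_left.2 fun h => Subgroup.eq_of_le_of_card_ge hle (hNmin ⟨L, hL, h⟩)
    have heven : 2 ∣ Nat.card N := by
      by_contra hcon
      have hodd : Odd (Nat.card N) := Nat.odd_iff.2 (by omega)
      set L := N.comap (QuotientGroup.mk' K) with hL
      have hKL : K ≤ L := fun k hk => by
        show QuotientGroup.mk' K k ∈ N
        rw [show QuotientGroup.mk' K k = 1 from (QuotientGroup.eq_one_iff k).2 hk]; exact one_mem N
      have hcard : Nat.card L = Nat.card N * Nat.card K := by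
        have h := (K.subgroupOf L).card_mul_index
        rw [Nat.card_congr (Subgroup.subgroupOfEquivOfLe hKL).toEquiv] at h
        rw [← h, mul_comm]
        congr 1
        have h2 : L.map (QuotientGroup.mk' K) = N :=
          Subgroup.map_comap_eq_self_of_surjective (QuotientGroup.mk'_surjective K) N
        conv_rhs => rw [← h2]
        rw [← Subgroup.relIndex_ker (f := QuotientGroup.mk' K), QuotientGroup.ker_mk']
        rfl
      have h := hKmax ⟨L, inferInstance, hcard ▸ hodd.mul hKodd⟩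
      simp only [hcard] at h
      have h1 : Nat.card N = 1 := le_antisymm (Nat.le_of_mul_le_mul_right
        (by rwa [one_mul]) Nat.card_pos) Nat.card_pos
      exact hN1 (Subgroup.eq_bot_of_card_eq N h1)
    have hN : Nat.card N ≤ F1 := card_minimal_le N hmin ht'2 heven h2Q
      ((Subgroup.card_le_of_le inf_le_right).trans hc1)
    by_cases hmem : t' ∈ N ∨ u' ∈ N ∨ t' * u' ∈ N
    · have : Nat.card Q ≤ F1 * B1 := by
        rcases hmem with h | h | h
        · exact (card_le_of_mem_normal N h).trans (Nat.mul_le_mul hN hc1)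
        · exact (card_le_of_mem_normal N h).trans (Nat.mul_le_mul hN hc2)
        · exact (card_le_of_mem_normal N h).trans (Nat.mul_le_mul hN hc3)
      omega
    · simp only [not_or] at hmem
      have hNQ : Nat.card Q = Nat.card (Q ⧸ N) * Nat.card N :=
        Subgroup.card_eq_card_quotient_mul_card_subgroup N
      have h2' : ¬ 2 ^ (a + 1) ∣ Nat.card (Q ⧸ N) := fun h => h2Q (by
        rw [hNQ, pow_succ]; exact mul_dvd_mul h heven)
      have hq' : ∀ x : Q, Nat.card (Subgroup.centralizer ({x} : Set Q)) ≤ B1 →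
          Nat.card (Subgroup.centralizer ({(x : Q ⧸ N)} : Set (Q ⧸ N))) ≤ B1 * F1 := fun x hx =>
        (card_centralizer_quotient_le N x).trans (Nat.mul_le_mul hx hN)
      have h3 : Nat.card (Q ⧸ N) ≤ F2 := hF2 (Q ⧸ N) (t' : Q ⧸ N) (u' : Q ⧸ N) (mk_mul_self N ht'2)
        (mk_mul_self N hu'2) (by
          show ((t' * u' : Q) : Q ⧸ N) = ((u' * t' : Q) : Q ⧸ N)
          congr 1
          show ((t * u : G) : G ⧸ K) = ((u * t : G) : G ⧸ K)
          rw [htu])
        (fun h => hmem.1 ((QuotientGroup.eq_one_iff t').1 h))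
        (fun h => hmem.2.1 ((QuotientGroup.eq_one_iff u').1 h))
        (fun h => hmem.2.2 ((QuotientGroup.eq_one_iff _).1 (by
          rw [QuotientGroup.mk_mul, h, ← QuotientGroup.mk_mul, hu'2, QuotientGroup.mk_one])))
        h2' (hq' _ hc1) (hq' _ hc2) (hq' _ hc3)
      have : Nat.card Q ≤ F1 * F2 := by
        rw [hNQ, mul_comm]; exact Nat.mul_le_mul hN h3
      omega

/-- Unit fractions adding up to a given number have bounded denominators. -/
theorem exists_bound_unit_fractions : ∀ (k : ℕ) (s : ℚ), ∃ N : ℕ, ∀ (ι : Type u) [Fintype ι]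
    (c : ι → ℕ), Fintype.card ι = k → (∀ i, 0 < c i) → ∑ i, (c i : ℚ)⁻¹ = s → ∀ i, c i ≤ N := by
  intro k
  induction k with
  | zero =>
    exact fun s => ⟨0, fun ι _ c hk _ _ i => by
      haveI := Fintype.card_eq_zero_iff.1 hk; exact isEmptyElim i⟩
  | succ k ih =>
    intro s
    set L := ⌈((k : ℚ) + 1) / s⌉₊ with hL
    choose N hN using fun m : ℕ => ih (s - (m : ℚ)⁻¹)
    refine ⟨L + (Finset.range (L + 1)).sup N, fun ι _ c hk hpos hsum i => ?_⟩
    classical
    haveI : Nonempty ι := ⟨i⟩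
    obtain ⟨i₀, hi₀⟩ := Finite.exists_min c
    have hs : 0 < s := hsum ▸ Finset.sum_pos (fun j _ => inv_pos.2 (Nat.cast_pos.2 (hpos j)))
      Finset.univ_nonempty
    have hc0 : c i₀ ≤ L := by
      have h : s ≤ ((k : ℚ) + 1) * (c i₀ : ℚ)⁻¹ := by
        rw [← hsum]
        refine le_trans (Finset.sum_le_sum fun j _ => inv_anti₀ (Nat.cast_pos.2 (hpos i₀))
          (Nat.cast_le.2 (hi₀ j))) ?_
        rw [Finset.sum_const, Finset.card_univ, hk, nsmul_eq_mul]
        push_cast; exact le_rfl
      have h' : (c i₀ : ℚ) ≤ ((k : ℚ) + 1) / s := by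
        rw [le_div_iff₀ hs]
        have h1 : (0 : ℚ) < c i₀ := Nat.cast_pos.2 (hpos i₀)
        calc (c i₀ : ℚ) * s ≤ (c i₀ : ℚ) * (((k : ℚ) + 1) * (c i₀ : ℚ)⁻¹) :=
              mul_le_mul_of_nonneg_left h h1.le
          _ = _ := by field_simp
      exact Nat.cast_le.1 (h'.trans (Nat.le_ceil _))
    by_cases hi : i = i₀
    · subst hi; omega
    · have h := hN (c i₀) {j : ι // j ≠ i₀} (fun j => c j.1) (by
        rw [Fintype.card_subtype_compl, Fintype.card_subtype_eq, hk]; omega)
        (fun j => hpos _) (by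
          rw [eq_sub_iff_add_eq', ← hsum]
          have e : ∑ j : {j : ι // j ≠ i₀}, (c j.1 : ℚ)⁻¹ =
              ∑ j ∈ (Finset.univ : Finset ι).erase i₀, (c j : ℚ)⁻¹ :=
            (Finset.sum_subtype ((Finset.univ : Finset ι).erase i₀) (fun j => by simp)
              (fun j => (c j : ℚ)⁻¹)).symm
          rw [e]
          exact Finset.add_sum_erase _ (fun j => (c j : ℚ)⁻¹) (Finset.mem_univ _)) ⟨i, hi⟩
      have h' : c i ≤ N (c i₀) := h
      have h2 : N (c i₀) ≤ (Finset.range (L + 1)).sup N :=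
        Finset.le_sup (Finset.mem_range.2 (by omega))
      omega

/-- **Landau's theorem.** -/
theorem exists_bound_of_card_classes (k : ℕ) : ∃ L : ℕ, ∀ (G : Type u) [Group G] [Finite G],
    Nat.card (ConjClasses G) ≤ k → Nat.card G ≤ L := by
  choose N hN using fun j : ℕ => exists_bound_unit_fractions.{u} j 1
  refine ⟨(Finset.range (k + 1)).sup N, fun G _ _ hk => ?_⟩
  classical
  haveI := Fintype.ofFinite G
  haveI : Finite (ConjClasses G) := Finite.of_surjective _ ConjClasses.mk_surjective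
  haveI := Fintype.ofFinite (ConjClasses G)
  let c : ConjClasses G → ℕ := fun C => Nat.card (Subgroup.centralizer ({Quotient.out C} : Set G))
  have hout : ∀ C : ConjClasses G, ConjClasses.mk (Quotient.out C) = C := Quotient.out_eq
  have hcard : ∀ C : ConjClasses G, Nat.card C.carrier * c C = Nat.card G := fun C => by
    refine (congrArg (· * c C) (Nat.card_congr (Equiv.subtypeEquivRight fun y => ?_))).trans
      (Involutions.card_class_mul (Quotient.out C))
    rw [ConjClasses.mem_carrier_iff_mk_eq, ← hout C, ConjClasses.mk_eq_mk_iff_isConj, hout C]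
    exact isConj_comm
  have hsum : ∑ C, (c C : ℚ)⁻¹ = 1 := by
    have h : ∑ C : ConjClasses G, C.carrier.toFinset.card = Fintype.card G :=
      sum_conjClasses_card_eq_card G
    have hG : (Nat.card G : ℚ) ≠ 0 := Nat.cast_ne_zero.2 Nat.card_pos.ne'
    calc ∑ C, (c C : ℚ)⁻¹ = ∑ C : ConjClasses G, (Nat.card C.carrier : ℚ) / Nat.card G := by
          refine Finset.sum_congr rfl fun C _ => ?_
          have h0 : (c C : ℚ) ≠ 0 := Nat.cast_ne_zero.2 Nat.card_pos.ne'
          rw [eq_div_iff hG, ← hcard C]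
          push_cast
          field_simp
      _ = 1 := by
          rw [← Finset.sum_div, div_eq_one_iff_eq hG, ← Nat.cast_sum, Nat.cast_inj,
            Nat.card_eq_fintype_card, ← h]
          refine Finset.sum_congr rfl fun C _ => ?_
          rw [Nat.card_eq_fintype_card, Set.toFinset_card]
  have h1 := hN (Fintype.card (ConjClasses G)) (ConjClasses G) c rfl (fun C => Nat.card_pos) hsum
    (ConjClasses.mk (1 : G))
  have hone : Quotient.out (ConjClasses.mk (1 : G)) = (1 : G) :=
    isConj_one_left.1 (ConjClasses.mk_eq_mk_iff_isConj.1 (hout _))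
  simp only [c, hone] at h1
  rw [show Subgroup.centralizer ({(1 : G)} : Set G) = ⊤ from eq_top_iff.2 fun g _ => by
    rw [mem_centralizer_iff']; group, Subgroup.card_top] at h1
  exact h1.trans (Finset.le_sup (Finset.mem_range.2 (by rw [← Nat.card_eq_fintype_card]; omega)))

end Cfsg.Agent.Lib.FewBlocks
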