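import Cfsg.Agent.Lib.FewBlocks.PrincipalOnly

/-!
# Bounded order from few 2-blocks of large defect
-/

set_option autoImplicit false
set_option linter.unusedSectionVars false
set_option linter.style.haveILetI false

namespace Cfsg.Agent.Lib.FewBlocks

open Cfsg Cfsg.Agent.Lib.Blocks Cfsg.Agent.Lib.Characters Cfsg.Agent.Lib.BrauerPairs

universe u

set_option maxHeartbeats 1000000 in
/-- **The bound.** -/
theorem exists_order_bound : ∀ a : ℕ, ∃ N : ℕ, ∀ (G : Type u) [Group G] [Fintype G] (M : Ideal AlgInt)
    [M.IsPrime], IsPModular 2 M → ∀ r : ℕ, (Nat.card G).factorization 2 ≤ a →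
    (∀ B : Set (IrrCharacter G), IsPBlock M B → B ≠ principalBlock M G → blockDefect 2 B < r) →
    (∃ E : Subgroup G, IsMulCommutative E ∧ (∀ x ∈ E, x * x = 1) ∧ Nat.card E = 2 ^ (r + 1)) →
    Nat.card G ≤ N := by
  intro a
  induction a with
  | zero =>
    refine ⟨0, fun G _ _ M _ _ r ha _ ⟨E, _, _, hE⟩ => ?_⟩
    have h : 2 ^ (r + 1) ∣ Nat.card G := hE ▸ Subgroup.card_subgroup_dvd_card E
    rw [Nat.prime_two.pow_dvd_iff_le_factorization Nat.card_pos.ne'] at h
    omega
  | succ a ih =>
    obtain ⟨N₀, hN₀⟩ := ih
    obtain ⟨L, hL⟩ := exists_bound_of_card_classes.{u} (2 ^ (2 * (a + 1)))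
    obtain ⟨F, hF⟩ := exists_bound_of_four_group.{u} (a + 1) (2 * N₀)
    refine ⟨L + F, fun G _ _ M _ hM r ha hyp ⟨E, hEc, hE2, hEcard⟩ => ?_⟩
    classical
    haveI := Fact.mk (Nat.prime_two)
    rcases Nat.eq_zero_or_pos r with hr | hr
    · subst hr
      have h1 : ∀ B : Set (IrrCharacter G), IsPBlock M B → B = principalBlock M G := fun B hB =>
        by_contra fun h => Nat.not_lt_zero _ (hyp B hB h)
      have := hL G (card_classes_le_of_one_block hM h1 ha)
      omega
    · have hcomm : ∀ x ∈ E, ∀ y ∈ E, x * y = y * x := fun x hx y hy =>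
        congrArg Subtype.val (hEc.is_comm.comm (⟨x, hx⟩ : E) ⟨y, hy⟩)
      -- centralisers of the involutions of `E`
      have hcent : ∀ x ∈ E, x ≠ 1 → Nat.card (Subgroup.centralizer ({x} : Set G)) ≤ 2 * N₀ := by
        intro x hx hx1
        have ho : orderOf x = 2 := orderOf_eq_prime (by rw [sq]; exact hE2 x hx) hx1
        have hxp : IsPGroup 2 (Subgroup.zpowers x) :=
          IsPGroup.of_card (n := 1) (by rw [Nat.card_zpowers, ho, pow_one])
        set C := Subgroup.centralizer (Subgroup.zpowers x : Set G) with hC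
        rw [show Subgroup.centralizer ({x} : Set G) = C by
          rw [hC, Subgroup.zpowers_eq_closure, Subgroup.centralizer_closure]]
        haveI := Fintype.ofFinite C
        have hxC : x ∈ C := mem_centralizer_zpowers_iff.2 (Commute.refl x)
        set K : Subgroup C := Subgroup.zpowers ⟨x, hxC⟩ with hK
        have hKZ : K ≤ Subgroup.center C := Subgroup.zpowers_le.2
          (Subgroup.mem_center_iff.2 fun g =>
            Subtype.ext (mem_centralizer_zpowers_iff.1 g.2).eq.symm)
        haveI : K.Normal := ⟨fun n hn g => by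
          rw [Subgroup.mem_center_iff.1 (hKZ hn) g, mul_inv_cancel_right]; exact hn⟩
        have hKcard : Nat.card K = 2 := by rw [hK, Nat.card_zpowers, Subgroup.orderOf_mk, ho]
        haveI := Fintype.ofFinite (C ⧸ K)
        have hCK : Nat.card C = Nat.card (C ⧸ K) * 2 :=
          hKcard ▸ Subgroup.card_eq_card_quotient_mul_card_subgroup K
        have hEC : E ≤ C := fun y hy => mem_centralizer_zpowers_iff.2 (hcomm x hx y hy)
        have hfac : (Nat.card (C ⧸ K)).factorization 2 ≤ a := by
          have h1 : (Nat.card C).factorization 2 ≤ (Nat.card G).factorization 2 :=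
            (Nat.factorization_le_iff_dvd Nat.card_pos.ne' Nat.card_pos.ne').2
              (Subgroup.card_subgroup_dvd_card C) 2
          rw [hCK, Nat.factorization_mul Nat.card_pos.ne' (by norm_num), Finsupp.add_apply,
            Nat.prime_two.factorization_self] at h1
          omega
        have hyp' : ∀ B : Set (IrrCharacter (C ⧸ K)), IsPBlock M B →
            B ≠ principalBlock M (C ⧸ K) → blockDefect 2 B < r - 1 := by
          refine quotient_hyp (G := C) hM K hKcard hKZ fun b hb hd => ?_
          exact centralizer_block_eq_principal hM hyp hxp hb (by omega)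
        have hKE : K ≤ E.subgroupOf C := Subgroup.zpowers_le.2 hx
        set Ebar := (E.subgroupOf C).map (QuotientGroup.mk' K) with hEbar
        have hEbar2 : ∀ y ∈ Ebar, y * y = 1 := by
          rintro _ ⟨y, hy, rfl⟩
          rw [← map_mul, show y * y = 1 from Subtype.ext (hE2 _ hy), map_one]
        have hEbarc : IsMulCommutative Ebar := ⟨⟨fun y z => by
          obtain ⟨y', hy', hye⟩ := y.2
          obtain ⟨z', hz', hze⟩ := z.2
          refine Subtype.ext ?_
          show (y : C ⧸ K) * z = z * y
          rw [← hye, ← hze, ← map_mul, ← map_mul,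
            show y' * z' = z' * y' from Subtype.ext (hcomm _ hy' _ hz')]⟩⟩
        have hEbarcard : Nat.card Ebar = 2 ^ r := by
          have h := (K.subgroupOf (E.subgroupOf C)).card_mul_index
          rw [Nat.card_congr (Subgroup.subgroupOfEquivOfLe hKE).toEquiv, hKcard,
            Nat.card_congr (Subgroup.subgroupOfEquivOfLe hEC).toEquiv, hEcard, pow_succ'] at h
          have h' : Nat.card Ebar = K.relIndex (E.subgroupOf C) := by
            rw [hEbar, ← Subgroup.relIndex_ker (f := QuotientGroup.mk' K), QuotientGroup.ker_mk']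
          rw [h', Subgroup.relIndex]
          omega
        have h2 := hN₀ (C ⧸ K) M hM (r - 1) hfac hyp'
          ⟨Ebar, hEbarc, hEbar2, by rw [hEbarcard, show r - 1 + 1 = r by omega]⟩
        rw [hCK]
        omega
      -- two involutions in `E`
      haveI := Fintype.ofFinite E
      have hE4 : 4 ≤ Nat.card E := by
        rw [hEcard]
        calc 4 = 2 ^ 2 := rfl
          _ ≤ 2 ^ (r + 1) := Nat.pow_le_pow_right (by norm_num) (by omega)
      obtain ⟨t, ht1⟩ : ∃ t : E, t ≠ 1 := by
        haveI : Nontrivial E := Finite.one_lt_card_iff_nontrivial.1 (by omega)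
        exact exists_ne 1
      obtain ⟨v, hv1, hvt⟩ : ∃ v : E, v ≠ 1 ∧ v ≠ t := by
        by_contra hcon
        simp only [not_exists, not_and, not_not] at hcon
        have h : (Finset.univ : Finset E) ⊆ {1, t} := fun y _ => by
          by_cases hy : y = 1
          · simp [hy]
          · simp [hcon y hy]
        have h' := (Finset.card_le_card h).trans Finset.card_le_two
        rw [Finset.card_univ, ← Nat.card_eq_fintype_card] at h'
        omega
      have ht' : (t : G) ≠ 1 := fun h => ht1 (Subtype.ext h)
      have hv' : (v : G) ≠ 1 := fun h => hv1 (Subtype.ext h)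
      have htv : (t : G) * v ≠ 1 := fun h => hvt (Subtype.ext (by
        calc (v : G) = (t : G) * t * v := by rw [hE2 _ t.2, one_mul]
          _ = t := by rw [mul_assoc, h, mul_one]))
      have := hF G t v (hE2 _ t.2) (hE2 _ v.2) (hcomm _ t.2 _ v.2) ht' hv'
        (fun h => hvt (Subtype.ext h.symm))
        (fun h => by
          rw [Nat.prime_two.pow_dvd_iff_le_factorization Nat.card_pos.ne'] at h
          omega)
        (hcent _ t.2 ht') (hcent _ v.2 hv') (hcent _ (mul_mem t.2 v.2) htv)
      omega

end Cfsg.Agent.Lib.FewBlocks
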