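import Cfsg.Agent.Lib.FewBlocks.FourGroupBound
import Cfsg.Agent.Lib.Blocks.CardBound
import Cfsg.Agent.Lib.BlockHeights.SectionCount
import Cfsg.Agent.Lib.BrauerPairs.Principal

/-!
# Groups with no non-principal block of large defect
-/

set_option autoImplicit false
set_option linter.unusedSectionVars false
set_option linter.style.haveILetI false

namespace Cfsg.Agent.Lib.FewBlocks

open Cfsg Cfsg.Agent.Lib.Blocks Cfsg.Agent.Lib.Characters Cfsg.Agent.Lib.BrauerPairs
open Cfsg.Agent.Lib.BlockHeights

universe u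

variable {G : Type u} [Group G] [Fintype G] {M : Ideal AlgInt} [hMp : M.IsPrime] {p : ℕ}

/-- Large blocks of the centraliser of a `p`-element are principal. -/
theorem centralizer_block_eq_principal (hM : IsPModular p M) {r : ℕ}
    (hyp : ∀ B : Set (IrrCharacter G), IsPBlock M B → B ≠ principalBlock M G → blockDefect p B < r)
    {x : G} (hx : IsPGroup p (Subgroup.zpowers x))
    {b : Set (IrrCharacter (Subgroup.centralizer (Subgroup.zpowers x : Set G)))} (hb : IsPBlock M b)
    (hd : r ≤ blockDefect p b) :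
    b = principalBlock M (Subgroup.centralizer (Subgroup.zpowers x : Set G)) := by
  classical
  haveI := Fact.mk hM.1
  haveI := Fintype.ofFinite (Subgroup.centralizer (Subgroup.zpowers x : Set G))
  obtain ⟨B, hB, -⟩ := existsUnique_isBrauerPairOf hM (⟨hx, hb⟩ : IsBrauerPair p M _ b)
  have hind := isInducedBlock_of_isBrauerPairOf_zpowers hM hB
  obtain ⟨D, hD⟩ := exists_isDefectGroup hM hb
  obtain ⟨E, hE, hDE⟩ := exists_le_defectGroup hM hind hD
  have h1 : p ^ blockDefect p b ≤ p ^ blockDefect p B := by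
    rw [← IsDefectGroup.card_eq hM hb hD, ← IsDefectGroup.card_eq hM hB.2.1 hE,
      Nat.card_congr (D.equivMapOfInjective _ (Subgroup.subtype_injective _)).toEquiv]
    exact Subgroup.card_le_of_le hDE
  have h2 := (Nat.pow_le_pow_iff_right hM.1.one_lt).1 h1
  by_cases hBP : B = principalBlock M G
  · exact (isBrauerPairOf_principal_iff hM hx).1 (hBP ▸ hB)
  · exact absurd (hyp B hB.2.1 hBP) (by omega)

set_option maxHeartbeats 1000000 in
/-- The hypothesis passes to the quotient of the centraliser by the `p`-element. -/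
theorem quotient_hyp (hM : IsPModular p M) (K : Subgroup G) [K.Normal] (hKp : Nat.card K = p)
    (hKZ : K ≤ Subgroup.center G) [Fintype (G ⧸ K)] {r : ℕ}
    (hyp : ∀ b : Set (IrrCharacter G), IsPBlock M b → r + 1 ≤ blockDefect p b →
      b = principalBlock M G)
    (B : Set (IrrCharacter (G ⧸ K))) (hB : IsPBlock M B) (hne : B ≠ principalBlock M (G ⧸ K)) :
    blockDefect p B < r := by
  classical
  haveI := Fact.mk hM.1
  by_contra hlt
  have hK : IsPGroup p K := IsPGroup.of_card (n := 1) (by rw [hKp, pow_one])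
  obtain ⟨η, hη, hηmin⟩ := Nat.sInf_mem ((IsPBlock.nonempty hB).image
    fun χ : IrrCharacter (G ⧸ K) => (charDegree (χ : G ⧸ K → ℂ)).factorization p)
  have hb := isPBlock_blockOf (M := M) (inflIrr K η)
  have hdeg : charDegree (inflIrr K η : G → ℂ) = charDegree (η : G ⧸ K → ℂ) := by
    show ⌊(((η : G ⧸ K → ℂ) ∘ QuotientGroup.mk' K) 1).re⌋₊ = _
    rw [Function.comp_apply, map_one]
    rfl
  have hcard : (Nat.card G).factorization p = (Nat.card (G ⧸ K)).factorization p + 1 := by
    rw [Subgroup.card_eq_card_quotient_mul_card_subgroup K,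
      Nat.factorization_mul Nat.card_pos.ne' Nat.card_pos.ne', Finsupp.add_apply, hKp,
      hM.1.factorization_self]
  have hmin := Nat.sInf_le (s := (fun χ : IrrCharacter G => (charDegree (χ : G → ℂ)).factorization p) ''
    blockOf M (inflIrr K η : G → ℂ)) ⟨inflIrr K η, self_mem_blockOf _, rfl⟩
  have hfac : (charDegree (η : G ⧸ K → ℂ)).factorization p ≤ (Nat.card (G ⧸ K)).factorization p :=
    (Nat.factorization_le_iff_dvd (charDegree_pos η).ne' Nat.card_pos.ne').2
      (Blocks.charDegree_dvd_card η) p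
  have hdef : r + 1 ≤ blockDefect p (blockOf M (inflIrr K η : G → ℂ)) := by
    simp only [blockDefect] at hlt ⊢
    simp only [hdeg] at hmin
    replace hηmin : (charDegree (η : G ⧸ K → ℂ)).factorization p = _ := hηmin
    omega
  have hprin := hyp _ hb hdef
  have hC : ∀ x : G, ¬ p ∣ orderOf x → x ∈ Subgroup.centralizer (K : Set G) := fun x _ =>
    mem_centralizer_subgroup_iff.2 fun u hu => (Subgroup.mem_center_iff.1 (hKZ hu) x).symm
  have h1 : SameBlock M (inflIrr K η : G → ℂ)
      ((trivIrr (G ⧸ K) : G ⧸ K → ℂ) ∘ QuotientGroup.mk' K) :=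
    IsPBlock.sameBlock hb (self_mem_blockOf _)
      (show inflIrr K (trivIrr (G ⧸ K)) ∈ blockOf M (inflIrr K η : G → ℂ) by
        rw [hprin, show inflIrr K (trivIrr (G ⧸ K)) = trivIrr G from Subtype.ext rfl]
        exact trivIrr_mem_principalBlock)
  have h2 := (sameBlock_comp_mk_iff K hM hK hC η (trivIrr (G ⧸ K))).2 h1
  exact hne (IsPBlock.eq_of_mem hB isPBlock_principalBlock
    ((IsPBlock.mem_iff hB hη).2 h2) trivIrr_mem_principalBlock)

/-- A group with one block has few classes. -/
theorem card_classes_le_of_one_block (hM : IsPModular p M)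
    (hyp : ∀ B : Set (IrrCharacter G), IsPBlock M B → B = principalBlock M G) {a : ℕ}
    (ha : (Nat.card G).factorization p ≤ a) : Nat.card (ConjClasses G) ≤ p ^ (2 * a) := by
  classical
  have huniv : ∀ χ : IrrCharacter G, χ ∈ principalBlock M G := fun χ =>
    hyp _ (isPBlock_blockOf χ) ▸ self_mem_blockOf χ
  rw [← card_irrCharacter, Nat.card_congr (Equiv.subtypeUnivEquiv huniv).symm]
  obtain ⟨h1, h2⟩ := card_block_le_pow hM (blockDefect p (principalBlock M G))
    (isPBlock_principalBlock (G := G) (M := M)) rfl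
  have hd : blockDefect p (principalBlock M G) ≤ a := (Nat.sub_le _ _).trans ha
  rcases le_or_gt (blockDefect p (principalBlock M G)) 2 with h | h
  · exact (h1 h).trans (Nat.pow_le_pow_right hM.1.pos (by omega))
  · exact (h2 h).trans (Nat.pow_le_pow_right hM.1.pos (by omega))

end Cfsg.Agent.Lib.FewBlocks
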